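import Cfsg.Agent.Lib.Helper40.OutTab
import Cfsg.Agent.Lib.Helper40.Fi.F22P3510
import Cfsg.Agent.Lib.Helper40.Fi.F22P14080
set_option autoImplicit false
set_option maxRecDepth 100000
namespace Cfsg.Agent.Lib.Helper40.PE.O22
def KT : BT ℕ := .node (.node (.node (.node (.node (.node (.leaf 0x8368888624888774188618878886088648728838886184788863488328180850)
 (.leaf 0x8688565803638880607655588688356688588183888355533183686086245486))
 (.node (.leaf 0x6541502121405472286631436103063326324132361310307303103221442748)
 (.leaf 0x2217140042740474072414047002430113772442724422171474427474755514)))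
 (.node (.node (.leaf 0x7744222131073471442217242747888888888557884880585588888888808588)
 (.leaf 0x7707738113137138568631636886883333481131123118880036036368368663))
 (.node (.leaf 0x8628883888618661383680381302818386361116622367436264233616656505)
 (.leaf 0x0))))
 (.node (.node (.node (.leaf 0x8827447704457447472422055757515755587754521072427442747477888888)
 (.leaf 0x3638188803648364618662886138336636226431364683365633655656046750))
 (.node (.leaf 0x8775884888585885822485583676577555558888821388853668888818888881)
 (.leaf 0x3636331613063363303131011033666135615204163110366061110310262633)))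
 (.node (.node (.leaf 0x7485552552155515055655330015471202410472443613103063247341122131)
 (.leaf 0x1353645557475541306007011241565557521000012555550100155500550552))
 (.node (.leaf 0x5666503653160130656526836486213066663136133666186623613303616661)
 (.leaf 0x0)))))
 (.node (.node (.node (.node (.leaf 0x6588754217427474788888888888888888888800358888888888887774774723)
 (.leaf 0x365565360306668366666611332868364136626610362666261666336136031))
 (.node (.leaf 0x8883888388886188863633081380281482030186631361264612163655565505)
 (.leaf 0x101261333312021236131306324341122131012214424215255012223130242)))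
 (.node (.node (.leaf 0x8888880888855804888888888888888888888888888888888838081214827470)
 (.leaf 0x83250717713338323841141101313133833831152132130313133361731032))
 (.node (.leaf 0x5522455383688655555588888653563668808556888188888366585881188888)
 (.leaf 0x0))))
 (.node (.node (.node (.leaf 0x7454707412557574557507555584755245515307724427244221714744274478)
 (.leaf 0x6666313621688383636136613656360616662616156636638258888880276808))
 (.node (.leaf 0x5550530166556553655356605665265050315200654521831866261306636316)
 (.leaf 0x333133363666666666653366536653661666616666336663661333)))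
 (.node (.node (.leaf 0x8828888880888885858564884888888828888388888888888888888888888688)
 (.leaf 0x7554747012717342742741747447472720112703316654573421742747475755))
 (.node (.leaf 0x6116621837636236746423362366086365556656550467533655565075577555)
 (.leaf 0x0))))))
 (.node (.node (.node (.node (.node (.leaf 0x1355658887427477888888888888803668888888777741388365288874788888)
 (.leaf 0x5103686666556658386688888888888888763770888847777788875816238388))
 (.node (.leaf 0x5652555153551555523005554428556558550253155551555006556553536005)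
 (.leaf 0x224402230001011341241422213107347144221724427470255414311242244)))
 (.node (.node (.leaf 0x631241555257542524057341577455755555447552525555105530347124741)
 (.leaf 0x3755663365533663333316183181311333183633636636666866288008625307))
 (.node (.leaf 0x8838855551068886486628854886488862610838883888888888888883386883)
 (.leaf 0x0))))
 (.node (.node (.node (.leaf 0x8888888588488088888888888888888080088188888888888888888888888888)
 (.leaf 0x7477778876688611300636736550886888565885883555883666632888861181))
 (.node (.leaf 0x3216363633123610306363303131022144285886888588858888888888488860)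
 (.leaf 0x6666633630366160336356210624566136166063416263630133362666363616)))
 (.node (.node (.leaf 0x8838830310828148274006336121230565551555452155205557572574556054)
 (.leaf 0x7477213327427473746474747236133264555742747755744303647470672274))
 (.node (.leaf 0x5555363605055585560065566655556555555513008656555565515557366566)
 (.leaf 0x0)))))
 (.node (.node (.node (.node (.leaf 0x8888888888888888888001888888888888888888847774744747272015575355)
 (.leaf 0x2565731776547555315683600000505555666555565555056555655573363666))
 (.node (.leaf 0x8886582868888888885568588648628488848886281883883888888888888888)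
 (.leaf 0x3613013663161363326321336131303013103221213621525006031206220122)))
 (.node (.node (.leaf 0x712144274788888888888888587588844805555588888588078580388838882)
 (.leaf 0x5012211350081200125118150012101111153331133211110813133333336801))
 (.node (.leaf 0x3336303013022135688655586558855888888888888870677768884887788888)
 (.leaf 0x0))))
 (.node (.node (.node (.leaf 0x8838888828888888888888888888888888888888888888182427477034255424)
 (.leaf 0x6686112361363136436363466676572313600656555656536555665556555363))
 (.node (.leaf 0x5665555565510575635553551005555555522365658855605555603115556555)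
 (.leaf 0x0)))
 (.node (.node (.leaf 0x8888888888888848888587758888882485555886075755803888813888688818)
 (.leaf 0x7477143272421744207340744747422277011713345770432172427442747477))
 (.node (.leaf 0x4886663888888888830381364838886888862886261868836186031380386886)
 (.leaf 0x0))))))
noncomputable def lt (y : ℕ) : ℕ := Nat.land (Nat.shiftRight (KT.get (Nat.shiftRight y 6)) (Nat.mul (Nat.land y 63) 4)) 15
def bw : List ℕ := [3, 1, 5, 3, 7, 8, 0, 1, 2, 4, 6, 3, 1, 5, 3, 7, 8, 0, 1, 2, 4, 6]
def bwr : List ℕ := [6, 4, 2, 1, 0, 8, 7, 3, 5, 1, 3, 6, 4, 2, 1, 0, 8, 7, 3, 5, 1, 3]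
def cy : List ℕ := [8, 5]
def Ws : List (List ℕ × Bool) := [([0], true), ([0, 0, 0, 2, 0, 0], true), ([0, 0, 0, 2, 0, 2, 0, 0], false)]
def SV : List ℕ := [2, 2675, 37, 1418, 2250, 1771, 1259, 1736, 3288, 822, 2678, 11, 1961, 8, 3327, 641, 2332, 3485, 1685, 1059, 216, 1381]
def c1 : List ℕ := [3, 6, 2, 1, 3, 0, 1, 2, 4, 7, 5, 3, 1, 2, 0, 1, 3, 6, 5, 3, 1, 2, 4, 0, 1, 3, 2, 1, 0, 5]
def x0w : List ℕ := [2, 0, 1, 3, 6, 5, 4, 0, 1, 3, 2, 1, 0, 5, 8, 3, 6, 4, 2, 1, 3, 0, 1, 2, 4, 7, 5, 4, 1, 2, 0, 1, 3, 6, 5, 1, 2, 4, 0, 1, 3, 2, 1, 0, 5, 6, 2, 4, 0, 1, 3, 2, 1, 0, 7, 4, 3, 2, 4, 7, 4]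
def vw : List ℕ := [3, 1, 3]
def GW : List (List ℕ) := [[1, 1, 1, 1, 1, 2, 1, 2, 1, 1, 2, 0, 0, 0, 0, 2], [0, 0, 0, 2, 0, 0, 0, 2, 0, 0, 0, 2, 1, 1, 2, 0, 0], [0, 0, 0, 2, 1, 2, 1, 1, 1, 1, 2, 1, 1, 1, 2, 0, 0, 0], [1, 1, 2, 1, 1, 2, 1, 1, 2, 0, 0], [0, 0, 0, 0, 2, 0, 2, 0, 0, 2, 0, 0, 0, 2, 1, 2, 1], [], [1, 1, 1, 2, 0, 2, 0, 2, 0, 0, 0, 2, 1, 1, 2, 1, 1, 1], [1, 1, 1, 2, 0, 2, 0, 2, 0, 0, 0, 2, 0, 0, 0, 2, 1, 1], [0, 0, 2, 0, 2, 0, 2, 0, 0, 0, 0, 0, 2, 0, 0, 0]]
noncomputable def ok (y : ℕ) : Bool := F22P3510.P.candOK lt 0 8 35 bwr bw Ws SV y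
noncomputable def nfix (x : ℕ) : Bool := bsel (allL (fun k => Nat.beq (F22P14080.P.pe x k) x) [0, 1, 2, 3, 4, 5, 6, 8]) false true
noncomputable def okAll_p : ℕ → Bool := fun i => ok (Nat.add 0 i)
theorem okAll_c0 : allB (fun i => okAll_p (Nat.add 0 i)) 130 = true := by decide +kernel
theorem okAll_c1 : allB (fun i => okAll_p (Nat.add 130 i)) 130 = true := by decide +kernel
theorem okAll_c2 : allB (fun i => okAll_p (Nat.add 260 i)) 130 = true := by decide +kernel
theorem okAll_c3 : allB (fun i => okAll_p (Nat.add 390 i)) 130 = true := by decide +kernel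
theorem okAll_c4 : allB (fun i => okAll_p (Nat.add 520 i)) 130 = true := by decide +kernel
theorem okAll_c5 : allB (fun i => okAll_p (Nat.add 650 i)) 130 = true := by decide +kernel
theorem okAll_c6 : allB (fun i => okAll_p (Nat.add 780 i)) 130 = true := by decide +kernel
theorem okAll_c7 : allB (fun i => okAll_p (Nat.add 910 i)) 130 = true := by decide +kernel
theorem okAll_c8 : allB (fun i => okAll_p (Nat.add 1040 i)) 130 = true := by decide +kernel
theorem okAll_c9 : allB (fun i => okAll_p (Nat.add 1170 i)) 130 = true := by decide +kernel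
theorem okAll_c10 : allB (fun i => okAll_p (Nat.add 1300 i)) 130 = true := by decide +kernel
theorem okAll_c11 : allB (fun i => okAll_p (Nat.add 1430 i)) 130 = true := by decide +kernel
theorem okAll_c12 : allB (fun i => okAll_p (Nat.add 1560 i)) 130 = true := by decide +kernel
theorem okAll_c13 : allB (fun i => okAll_p (Nat.add 1690 i)) 130 = true := by decide +kernel
theorem okAll_c14 : allB (fun i => okAll_p (Nat.add 1820 i)) 130 = true := by decide +kernel
theorem okAll_c15 : allB (fun i => okAll_p (Nat.add 1950 i)) 130 = true := by decide +kernel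
theorem okAll_c16 : allB (fun i => okAll_p (Nat.add 2080 i)) 130 = true := by decide +kernel
theorem okAll_c17 : allB (fun i => okAll_p (Nat.add 2210 i)) 130 = true := by decide +kernel
theorem okAll_c18 : allB (fun i => okAll_p (Nat.add 2340 i)) 130 = true := by decide +kernel
theorem okAll_c19 : allB (fun i => okAll_p (Nat.add 2470 i)) 130 = true := by decide +kernel
theorem okAll_c20 : allB (fun i => okAll_p (Nat.add 2600 i)) 130 = true := by decide +kernel
theorem okAll_c21 : allB (fun i => okAll_p (Nat.add 2730 i)) 130 = true := by decide +kernel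
theorem okAll_c22 : allB (fun i => okAll_p (Nat.add 2860 i)) 130 = true := by decide +kernel
theorem okAll_c23 : allB (fun i => okAll_p (Nat.add 2990 i)) 130 = true := by decide +kernel
theorem okAll_c24 : allB (fun i => okAll_p (Nat.add 3120 i)) 130 = true := by decide +kernel
theorem okAll_c25 : allB (fun i => okAll_p (Nat.add 3250 i)) 130 = true := by decide +kernel
theorem okAll_c26 : allB (fun i => okAll_p (Nat.add 3380 i)) 130 = true := by decide +kernel
theorem okAll_a0 : ∀ u < 0, okAll_p u = true := allB_base
theorem okAll_a1 : ∀ u < 130, okAll_p u = true := allB_extend (p := okAll_p) okAll_a0 okAll_c0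
theorem okAll_a2 : ∀ u < 260, okAll_p u = true := allB_extend (p := okAll_p) okAll_a1 okAll_c1
theorem okAll_a3 : ∀ u < 390, okAll_p u = true := allB_extend (p := okAll_p) okAll_a2 okAll_c2
theorem okAll_a4 : ∀ u < 520, okAll_p u = true := allB_extend (p := okAll_p) okAll_a3 okAll_c3
theorem okAll_a5 : ∀ u < 650, okAll_p u = true := allB_extend (p := okAll_p) okAll_a4 okAll_c4
theorem okAll_a6 : ∀ u < 780, okAll_p u = true := allB_extend (p := okAll_p) okAll_a5 okAll_c5
theorem okAll_a7 : ∀ u < 910, okAll_p u = true := allB_extend (p := okAll_p) okAll_a6 okAll_c6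
theorem okAll_a8 : ∀ u < 1040, okAll_p u = true := allB_extend (p := okAll_p) okAll_a7 okAll_c7
theorem okAll_a9 : ∀ u < 1170, okAll_p u = true := allB_extend (p := okAll_p) okAll_a8 okAll_c8
theorem okAll_a10 : ∀ u < 1300, okAll_p u = true := allB_extend (p := okAll_p) okAll_a9 okAll_c9
theorem okAll_a11 : ∀ u < 1430, okAll_p u = true := allB_extend (p := okAll_p) okAll_a10 okAll_c10
theorem okAll_a12 : ∀ u < 1560, okAll_p u = true := allB_extend (p := okAll_p) okAll_a11 okAll_c11
theorem okAll_a13 : ∀ u < 1690, okAll_p u = true := allB_extend (p := okAll_p) okAll_a12 okAll_c12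
theorem okAll_a14 : ∀ u < 1820, okAll_p u = true := allB_extend (p := okAll_p) okAll_a13 okAll_c13
theorem okAll_a15 : ∀ u < 1950, okAll_p u = true := allB_extend (p := okAll_p) okAll_a14 okAll_c14
theorem okAll_a16 : ∀ u < 2080, okAll_p u = true := allB_extend (p := okAll_p) okAll_a15 okAll_c15
theorem okAll_a17 : ∀ u < 2210, okAll_p u = true := allB_extend (p := okAll_p) okAll_a16 okAll_c16
theorem okAll_a18 : ∀ u < 2340, okAll_p u = true := allB_extend (p := okAll_p) okAll_a17 okAll_c17
theorem okAll_a19 : ∀ u < 2470, okAll_p u = true := allB_extend (p := okAll_p) okAll_a18 okAll_c18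
theorem okAll_a20 : ∀ u < 2600, okAll_p u = true := allB_extend (p := okAll_p) okAll_a19 okAll_c19
theorem okAll_a21 : ∀ u < 2730, okAll_p u = true := allB_extend (p := okAll_p) okAll_a20 okAll_c20
theorem okAll_a22 : ∀ u < 2860, okAll_p u = true := allB_extend (p := okAll_p) okAll_a21 okAll_c21
theorem okAll_a23 : ∀ u < 2990, okAll_p u = true := allB_extend (p := okAll_p) okAll_a22 okAll_c22
theorem okAll_a24 : ∀ u < 3120, okAll_p u = true := allB_extend (p := okAll_p) okAll_a23 okAll_c23
theorem okAll_a25 : ∀ u < 3250, okAll_p u = true := allB_extend (p := okAll_p) okAll_a24 okAll_c24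
theorem okAll_a26 : ∀ u < 3380, okAll_p u = true := allB_extend (p := okAll_p) okAll_a25 okAll_c25
theorem okAll_a27 : ∀ u < 3510, okAll_p u = true := allB_extend (p := okAll_p) okAll_a26 okAll_c26
theorem okAll : ∀ u, 0 ≤ u → u < 3510 → ok u = true := by
  intro u h1 h2
  have h3 := okAll_a27 (u - 0) (by omega)
  have e : Nat.add 0 (u - 0) = u := by show 0 + (u - 0) = u; omega
  unfold okAll_p at h3
  rw [e] at h3; exact h3
noncomputable def nfixAll_p : ℕ → Bool := fun i => nfix (Nat.add 0 i)
theorem nfixAll_c0 : allB (fun i => nfixAll_p (Nat.add 0 i)) 1760 = true := by decide +kernel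
theorem nfixAll_c1 : allB (fun i => nfixAll_p (Nat.add 1760 i)) 1760 = true := by decide +kernel
theorem nfixAll_c2 : allB (fun i => nfixAll_p (Nat.add 3520 i)) 1760 = true := by decide +kernel
theorem nfixAll_c3 : allB (fun i => nfixAll_p (Nat.add 5280 i)) 1760 = true := by decide +kernel
theorem nfixAll_c4 : allB (fun i => nfixAll_p (Nat.add 7040 i)) 1760 = true := by decide +kernel
theorem nfixAll_c5 : allB (fun i => nfixAll_p (Nat.add 8800 i)) 1760 = true := by decide +kernel
theorem nfixAll_c6 : allB (fun i => nfixAll_p (Nat.add 10560 i)) 1760 = true := by decide +kernel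
theorem nfixAll_c7 : allB (fun i => nfixAll_p (Nat.add 12320 i)) 1760 = true := by decide +kernel
theorem nfixAll_a0 : ∀ u < 0, nfixAll_p u = true := allB_base
theorem nfixAll_a1 : ∀ u < 1760, nfixAll_p u = true := allB_extend (p := nfixAll_p) nfixAll_a0 nfixAll_c0
theorem nfixAll_a2 : ∀ u < 3520, nfixAll_p u = true := allB_extend (p := nfixAll_p) nfixAll_a1 nfixAll_c1
theorem nfixAll_a3 : ∀ u < 5280, nfixAll_p u = true := allB_extend (p := nfixAll_p) nfixAll_a2 nfixAll_c2
theorem nfixAll_a4 : ∀ u < 7040, nfixAll_p u = true := allB_extend (p := nfixAll_p) nfixAll_a3 nfixAll_c3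
theorem nfixAll_a5 : ∀ u < 8800, nfixAll_p u = true := allB_extend (p := nfixAll_p) nfixAll_a4 nfixAll_c4
theorem nfixAll_a6 : ∀ u < 10560, nfixAll_p u = true := allB_extend (p := nfixAll_p) nfixAll_a5 nfixAll_c5
theorem nfixAll_a7 : ∀ u < 12320, nfixAll_p u = true := allB_extend (p := nfixAll_p) nfixAll_a6 nfixAll_c6
theorem nfixAll_a8 : ∀ u < 14080, nfixAll_p u = true := allB_extend (p := nfixAll_p) nfixAll_a7 nfixAll_c7
theorem nfixAll : ∀ u, 0 ≤ u → u < 14080 → nfix u = true := by
  intro u h1 h2
  have h3 := nfixAll_a8 (u - 0) (by omega)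
  have e : Nat.add 0 (u - 0) = u := by show 0 + (u - 0) = u; omega
  unfold nfixAll_p at h3
  rw [e] at h3; exact h3
end Cfsg.Agent.Lib.Helper40.PE.O22
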