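/-
helper40: the outer automorphism group of the presented group Fi22 has order two.
-/
import Cfsg.Agent.Lib.Helper40.OutTransp3
import Cfsg.Agent.Lib.Helper40.Fi.F22Main
import Cfsg.Agent.Lib.Helper40.PresTransp
import Cfsg.Agent.Lib.Helper40.Out22.Data

set_option autoImplicit false
set_option maxRecDepth 100000

namespace Cfsg.Agent.Lib.Helper40.PE.O22

open Cfsg.Spor

/-- the symmetry of the diagram -/
def sg : ℕ → ℕ
  | 0 => 2 | 2 => 0 | 5 => 4 | 4 => 5 | 8 => 7 | 7 => 8 | k => k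

theorem sg_lt : ∀ k < 9, sg k < 9 := by decide

theorem sg_sg : ∀ k < 9, sg (sg k) = k := by decide

theorem weq (w w' : List ℕ) (hw : ∀ k ∈ w, k < F22P14080.P.A)
    (hw' : ∀ k ∈ w', k < F22P14080.P.A)
    (hchk : allL (fun b => Nat.beq (F22P14080.P.walk w.reverse b) (F22P14080.P.walk w'.reverse b))
      F22P14080.base = true) : wp F22.s w = wp F22.s w' := F22M.word_eq w w' hw hw' hchk

theorem exists_sigma :
    ∃ f : Cfsg.Spor.Fi22 →* Cfsg.Spor.Fi22, ∀ k < 9, f (F22.s k) = F22.s (sg k) := by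
  obtain ⟨f, hf⟩ := exists_hom Fi22.edges Fi22.extra (fun k => F22.s (sg k)) F22.idx
    (by
      intro x _ y _
      rw [F22.label_eq]
      have h1 : ∀ i < 9, ∀ j < 9, mY (sg i) (sg j) = mY i j := by decide
      rw [← h1 _ (F22.idx_lt x) _ (F22.idx_lt y)]
      exact F22.s_cox _ (sg_lt _ (F22.idx_lt x)) _ (sg_lt _ (F22.idx_lt y)))
    (by
      intro r hr
      simp only [Fi22.extra, List.mem_cons, List.not_mem_nil, or_false] at hr
      rcases hr with rfl | rfl | rfl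
      · have h1 : wp F22.s (List.replicate 10 [1, 2, 4, 1, 0, 5, 1, 3, 6]).flatten = wp F22.s [] :=
          weq _ [] (by decide +kernel) (by simp) (by decide +kernel)
        rw [wp_flatten_replicate] at h1
        simp only [wp_cons, wp_nil, mul_one] at h1
        simp only [map_pow, map_mul, FreeGroup.lift_apply_of, mul_assoc]
        exact h1
      · have h1 : wp F22.s (List.replicate 9 [7, 4, 2, 1, 0, 5, 3]).flatten = wp F22.s [] :=
          weq _ [] (by decide +kernel) (by simp) (by decide +kernel)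
        rw [wp_flatten_replicate] at h1
        simp only [wp_cons, wp_nil, mul_one] at h1
        simp only [map_pow, map_mul, FreeGroup.lift_apply_of, mul_assoc]
        exact h1
      · have h1 : wp F22.s (List.replicate 9 [4, 2, 1, 0, 5, 8, 3]).flatten = wp F22.s [] :=
          weq _ [] (by decide +kernel) (by simp) (by decide +kernel)
        rw [wp_flatten_replicate] at h1
        simp only [wp_cons, wp_nil, mul_one] at h1
        simp only [map_pow, map_mul, FreeGroup.lift_apply_of, mul_assoc]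
        exact h1)
  refine ⟨f, fun k hk => ?_⟩
  have := hf (F22.gen k)
  rw [F22.idx_gen hk] at this
  exact this

theorem exists_aut : ∃ σ : MulAut Cfsg.Spor.Fi22, ∀ k < 9, σ (F22.s k) = F22.s (sg k) := by
  obtain ⟨f, hf⟩ := exists_sigma
  have hff : f.comp f = MonoidHom.id _ := by
    apply MonoidHom.eq_of_eqOn_dense (show Subgroup.closure _ = ⊤ from F22.pre_top)
    rintro _ ⟨k, hk, rfl⟩
    show f (f (F22.s k)) = F22.s k
    rw [hf k hk, hf _ (sg_lt k hk), sg_sg k hk]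
  exact ⟨MonoidHom.toMulEquiv f f hff hff, hf⟩

theorem sigma_wp {σ : MulAut Cfsg.Spor.Fi22} (hσ : ∀ k < 9, σ (F22.s k) = F22.s (sg k))
    (w : List ℕ) (hw : ∀ k ∈ w, k < 9) : σ (wp F22.s w) = wp F22.s (w.map sg) := by
  induction w with
  | nil => simp
  | cons k w ih =>
    rw [wp_cons, map_mul, hσ k (hw k List.mem_cons_self), List.map_cons, wp_cons,
      ih fun i hi => hw i (List.mem_cons_of_mem _ hi)]

/-- the diagram automorphism is not inner: it moves the class of the stabiliser of a point of the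
action on 14080 points -/
theorem not_inner {σ : MulAut Cfsg.Spor.Fi22} (hσ : ∀ k < 9, σ (F22.s k) = F22.s (sg k)) :
    ¬ ∃ u : Cfsg.Spor.Fi22, ∀ x, σ x = u * x * u⁻¹ := by
  rintro ⟨u, hu⟩
  obtain ⟨ρ, hρ⟩ := F22.exists_rho (p := F22P14080.P) rfl F22P14080.good
  have hq : ρ u 0 < F22P14080.P.N := PTab.rho_lt F22P14080.good hρ F22.pre_top u 0 (by decide)
  have hfixk : ∀ k < 8, F22P14080.P.pe (ρ u 0) (sg k) = ρ u 0 := by
    intro k hk
    have hk9 : k < 9 := by omega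
    rw [← PTab.rho_s F22P14080.good hρ (sg_lt k hk9) hq, ← hσ k hk9, hu, map_mul, map_mul,
      Equiv.Perm.mul_apply, Equiv.Perm.mul_apply, map_inv]
    have e1 : (ρ u)⁻¹ (ρ u 0) = 0 := (ρ u).symm_apply_apply 0
    rw [e1, PTab.rho_s F22P14080.good hρ hk9 (by decide), F22P14080.fix0 k hk]
  have h1 := nfixAll (ρ u 0) (Nat.zero_le _) hq
  have h2 : allL (fun k => Nat.beq (F22P14080.P.pe (ρ u 0) k) (ρ u 0)) [0, 1, 2, 3, 4, 5, 6, 8]
      = true := by
    rw [allL_iff]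
    intro k hk
    rw [beq_iff']
    simp only [List.mem_cons, List.not_mem_nil, or_false] at hk
    rcases hk with rfl | rfl | rfl | rfl | rfl | rfl | rfl | rfl
    · exact hfixk 2 (by norm_num)
    · exact hfixk 1 (by norm_num)
    · exact hfixk 0 (by norm_num)
    · exact hfixk 3 (by norm_num)
    · exact hfixk 5 (by norm_num)
    · exact hfixk 4 (by norm_num)
    · exact hfixk 6 (by norm_num)
    · exact hfixk 7 (by norm_num)
  rw [nfix, h2] at h1
  exact absurd h1 (by simp)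

theorem transp : ∀ d ∈ conjugatesOf (F22.s 8), ∀ e ∈ conjugatesOf (F22.s 8),
    (d * e) ^ 2 = 1 ∨ (d * e) ^ 3 = 1 := by
  obtain ⟨ρ, hρ⟩ := F22.exists_rho (p := F22P3510.P) rfl F22M.good3510
  obtain ⟨hfix, hidx, hinj, hlt, t1, t2, m2⟩ := F22M.act3510 hρ
  have e1 : ρ (wp F22.s [5])⁻¹ 0 = 1 := by
    rw [PTab.rho_wp_inv F22M.good3510 hρ [5] (by decide) 0 (by decide), F22P3510.root1]
  have e2 : ρ (wp F22.s [5, 0, 8, 5])⁻¹ 0 = 2817 := by
    rw [PTab.rho_wp_inv F22M.good3510 hρ [5, 0, 8, 5] (by decide) 0 (by decide), F22P3510.root2]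
  have hdc := dc_of_rank3 hfix hinj hlt t1 t2 e1 e2
  have e8 : F22.s 8 = wp F22.s [8] := by simp
  have h3 : (F22.s 8 * ((wp F22.s [5])⁻¹ * F22.s 8 * (wp F22.s [5])⁻¹⁻¹)) ^ 3 = 1 := by
    rw [inv_inv, ← wp_reverse _ F22.s_inv, e8, ← wp_append, ← wp_append, ← wp_append,
      ← wp_flatten_replicate]
    exact weq _ [] (by decide +kernel) (by simp) (by decide +kernel)
  have h2 : (F22.s 8 * ((wp F22.s [5, 0, 8, 5])⁻¹ * F22.s 8 * (wp F22.s [5, 0, 8, 5])⁻¹⁻¹)) ^ 2
      = 1 := by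
    rw [inv_inv, ← wp_reverse _ F22.s_inv, e8, ← wp_append, ← wp_append, ← wp_append,
      ← wp_flatten_replicate]
    exact weq _ [] (by decide +kernel) (by simp) (by decide +kernel)
  exact transp_of_dc F22M.H_comm (F22.s_inv 8) hdc h3 h2

variable {ρ : Cfsg.Spor.Fi22 →* Equiv.Perm ℕ}

theorem hP (hρ : ∀ k < F22P3510.P.A, ρ (F22.s k) = PTab.sig F22M.good3510 k) :
    PTab.Pt ρ (F22.s 8) 0 := by
  obtain ⟨hfix, hidx, hinj, hlt, t1, t2, m2⟩ := F22M.act3510 hρ
  refine ⟨fun g => ⟨fun hg => ?_, fun hg => ?_⟩⟩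
  · have h1 : ev hfix (g : _ ⧸ F22M.H) = ev hfix ((1 : Cfsg.Spor.Fi22) : _ ⧸ _) := by
      rw [ev_mk, ev_mk, hg]; simp
    have h3 := QuotientGroup.eq.mp (hinj h1).symm
    exact F22M.H_comm g (by simpa using h3)
  · apply hfix
    rw [← F22M.centralizer_s8, Subgroup.mem_centralizer_singleton_iff]
    exact hg

theorem wne (hρ : ∀ k < F22P3510.P.A, ρ (F22.s k) = PTab.sig F22M.good3510 k) (w : List ℕ)
    (h1 : ∀ k ∈ w, k < F22P3510.P.A) (x : ℕ) (hx : x < F22P3510.P.N)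
    (h3 : Nat.beq (F22P3510.P.walk w.reverse x) x = false) : wp F22.s w ≠ 1 := by
  intro h
  have e := PTab.rho_wp_apply F22M.good3510 hρ w h1 x hx
  rw [h, map_one, Equiv.Perm.one_apply] at e
  rw [← e, (beq_iff' (a := x) (b := x)).mpr rfl] at h3
  cases h3

theorem b_order : orderOf (wp F22.s bw) = 11 := by
  obtain ⟨ρ, hρ⟩ := F22.exists_rho (p := F22P3510.P) rfl F22M.good3510
  have : Fact (Nat.Prime 11) := ⟨by norm_num⟩
  apply orderOf_eq_prime
  · rw [← wp_flatten_replicate]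
    exact weq _ [] (by decide +kernel) (by simp) (by decide +kernel)
  · exact wne hρ bw (by decide) 1 (by decide) (by decide +kernel)

theorem wp_selw (bw tw : List ℕ) (c : ℕ) :
    wp F22.s (OutT.selw bw tw c) = OutT.val (wp F22.s bw) (wp F22.s tw) c := by
  match c with
  | 0 => rfl
  | 1 => exact wp_reverse _ F22.s_inv bw
  | _ + 2 => rfl

theorem ev_eq_wp (bw tw : List ℕ) (W : List ℕ) :
    OutT.ev (wp F22.s bw) (wp F22.s tw) W = wp F22.s (OutT.evw bw tw W) := by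
  induction W with
  | nil => rfl
  | cons c W ih => rw [OutT.ev, OutT.evw, wp_append, ih, wp_selw]

theorem gen :
    Subgroup.closure {wp F22.s bw, wp F22.s (Tw 8 cy)} = (⊤ : Subgroup Cfsg.Spor.Fi22) := by
  have key : ∀ k < 9,
      (∀ i ∈ OutT.evw bw (Tw 8 cy) (GW.getD k []) ++ Tw 8 cy ++
        (OutT.evw bw (Tw 8 cy) (GW.getD k [])).reverse, i < F22P14080.P.A) ∧
      allL (fun b => Nat.beq (F22P14080.P.walk [k].reverse b)
        (F22P14080.P.walk (OutT.evw bw (Tw 8 cy) (GW.getD k []) ++ Tw 8 cy ++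
        (OutT.evw bw (Tw 8 cy) (GW.getD k [])).reverse).reverse b)) F22P14080.base = true := by
    decide +kernel
  rw [eq_top_iff, ← F22.pre_top, pre, Subgroup.closure_le]
  rintro _ ⟨k, hk, rfl⟩
  obtain ⟨k1, k2⟩ := key k hk
  have e := weq [k] _ (by intro i hi; rw [List.mem_singleton.1 hi]; exact hk) k1 k2
  rw [wp_append, wp_append, wp_reverse _ F22.s_inv, ← ev_eq_wp, wp_cons, wp_nil, mul_one] at e
  rw [e]
  have h1 := OutT.ev_mem (wp F22.s bw) (wp F22.s (Tw 8 cy)) (GW.getD k [])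
  exact Subgroup.mul_mem _ (Subgroup.mul_mem _ h1 (Subgroup.subset_closure (Or.inr rfl)))
    (Subgroup.inv_mem _ h1)

theorem conj_of_Tw (c c' : List ℕ) :
    ∃ g : Cfsg.Spor.Fi22, wp F22.s (Tw 8 c') = g * wp F22.s (Tw 8 c) * g⁻¹ := by
  refine ⟨wp F22.s c' * (wp F22.s c)⁻¹, ?_⟩
  rw [wp_Tw F22.s_inv, wp_Tw F22.s_inv]; group

theorem Q (g : Cfsg.Spor.Fi22) :
    (wp F22.s (Tw 8 cy) * (g * wp F22.s (Tw 8 cy) * g⁻¹)) ^ 2 = 1 ∨
      (wp F22.s (Tw 8 cy) * (g * wp F22.s (Tw 8 cy) * g⁻¹)) ^ 3 = 1 := by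
  apply transp
  · rw [wp_Tw F22.s_inv]; exact isConj_iff.mpr ⟨_, rfl⟩
  · rw [wp_Tw F22.s_inv]
    refine isConj_iff.mpr ⟨g * wp F22.s cy, ?_⟩
    group

theorem t_sq : wp F22.s (Tw 8 cy) * wp F22.s (Tw 8 cy) = 1 := by
  rw [wp_Tw F22.s_inv]
  calc wp F22.s cy * F22.s 8 * (wp F22.s cy)⁻¹ * (wp F22.s cy * F22.s 8 * (wp F22.s cy)⁻¹)
      = wp F22.s cy * (F22.s 8 * F22.s 8) * (wp F22.s cy)⁻¹ := by group
    _ = 1 := by rw [F22.s_inv]; group

theorem t_ne : wp F22.s (Tw 8 cy) ≠ 1 := by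
  obtain ⟨ρ, hρ⟩ := F22.exists_rho (p := F22P3510.P) rfl F22M.good3510
  exact wne hρ _ (by decide) 0 (by decide) (by decide +kernel)

theorem d1b : wp F22.s (Tw 8 c1) * wp F22.s bw = wp F22.s bw * wp F22.s (Tw 8 c1) := by
  rw [← wp_append, ← wp_append]
  exact weq _ _ (by decide +kernel) (by decide +kernel) (by decide +kernel)

def ew : ℕ → List ℕ
  | 0 => []
  | _ => Tw 8 c1

def uw (a j : ℕ) : List ℕ := (List.replicate a bw).flatten ++ ew j

theorem SV_eq : SV = (List.range 11).flatMap fun a => (List.range 2).map fun j =>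
    F22P3510.P.walk (uw a j ++ cy).reverse 0 := by decide +kernel

theorem uw_letters : ∀ a < 11, ∀ j < 2, ∀ k ∈ uw a j ++ cy, k < F22P3510.P.A := by decide +kernel

theorem K (g : Cfsg.Spor.Fi22)
    (hg : ∀ W, OutT.tst (wp F22.s bw) (wp F22.s (Tw 8 cy)) W ↔
      OutT.tst (wp F22.s bw) (g * wp F22.s (Tw 8 cy) * g⁻¹) W) :
    ∃ (a : ℕ) (e : Cfsg.Spor.Fi22), (e = 1 ∨ e = wp F22.s (Tw 8 c1)) ∧
      g * wp F22.s (Tw 8 cy) * g⁻¹
        = (wp F22.s bw ^ a * e) * wp F22.s (Tw 8 cy) * (wp F22.s bw ^ a * e)⁻¹ := by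
  obtain ⟨ρ, hρ⟩ := F22.exists_rho (p := F22P3510.P) rfl F22M.good3510
  have hbr : bwr = bw.reverse := by decide
  have ey : ρ (wp F22.s cy) 0 = 2 := by
    rw [PTab.rho_wp_apply F22M.good3510 hρ cy (by decide) _ (by decide)]; decide +kernel
  have htrue : ∀ Wb ∈ Ws,
      F22P3510.P.tstB bw.reverse bw (Tw 8 cy) (ρ (wp F22.s cy) 0) Wb.1 = Wb.2 := by
    rw [ey]; decide +kernel
  have hall : ∀ y < F22P3510.P.N, F22P3510.P.candOK lt 0 8 35 bw.reverse bw Ws SV y = true := by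
    intro y hy; rw [← hbr]; exact okAll y (Nat.zero_le _) hy
  have et : g * wp F22.s (Tw 8 cy) * g⁻¹
      = (g * wp F22.s cy) * F22.s 8 * (g * wp F22.s cy)⁻¹ := by
    rw [wp_Tw F22.s_inv]; group
  have hm := PTab.cand_mem F22M.good3510 hρ F22.s_inv F22.pre_top (hP hρ) (by decide) (by decide)
    (bw := bw) (cy := cy) (by decide) (by decide) htrue hall (g * wp F22.s cy)
    (by intro W; rw [← et]; exact hg W)
  rw [SV_eq] at hm
  simp only [List.mem_flatMap, List.mem_map, List.mem_range] at hm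
  obtain ⟨a, ha, j, hj, h⟩ := hm
  rw [← PTab.rho_wp_apply F22M.good3510 hρ _ (uw_letters a ha j hj) _ (by decide)] at h
  have h2 := (hP hρ).conj_eq h
  refine ⟨a, wp F22.s (ew j), ?_, ?_⟩
  · interval_cases j
    · left; rfl
    · right; rfl
  · rw [et, ← h2, wp_append, uw, wp_append, wp_flatten_replicate, wp_Tw F22.s_inv]; group

theorem fix_inner (β : MulAut Cfsg.Spor.Fi22) (hβ : β (wp F22.s bw) = wp F22.s bw) :
    ∃ u : Cfsg.Spor.Fi22, ∀ x, β x = u * x * u⁻¹ := by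
  have := F22M.fin
  have : Fact (Nat.Prime 11) := ⟨by norm_num⟩
  have hd1 := conj_of_Tw cy c1
  have hd1s : wp F22.s (Tw 8 c1) * wp F22.s (Tw 8 c1) = 1 := by
    rw [wp_Tw F22.s_inv]
    calc wp F22.s c1 * F22.s 8 * (wp F22.s c1)⁻¹ * (wp F22.s c1 * F22.s 8 * (wp F22.s c1)⁻¹)
        = wp F22.s c1 * (F22.s 8 * F22.s 8) * (wp F22.s c1)⁻¹ := by group
      _ = 1 := by rw [F22.s_inv]; group
  refine OutT.inner_of_fix 11 (by norm_num) (wp F22.s bw) (wp F22.s (Tw 8 cy))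
    (wp F22.s (Tw 8 c1)) b_order gen F22M.center_triv Q hd1 d1b t_sq t_ne
    (fun e => e = 1 ∨ e = wp F22.s (Tw 8 c1)) ?_ ?_ ?_ K β hβ
  · rintro e (rfl | rfl)
    · simp
    · exact d1b
  · rintro e (rfl | rfl)
    · simp
    · exact hd1s
  · rintro e (rfl | rfl)
    · left; rfl
    · right; left; exact hd1

theorem index_two : ((MulAut.conj : Cfsg.Spor.Fi22 →* MulAut Cfsg.Spor.Fi22).range).index = 2 := by
  have := F22M.fin
  have : Fact (Nat.Prime 11) := ⟨by norm_num⟩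
  obtain ⟨σ, hσ⟩ := exists_aut
  refine OutT.out_two 11 (wp F22.s bw) b_order (by rw [F22M.card_eq]; norm_num) σ (wp F22.s x0w)
    (wp F22.s vw) 5 10 ?_ ?_ ?_ fix_inner (not_inner hσ)
  · rw [← wp_reverse _ F22.s_inv, ← wp_append, ← wp_append, ← wp_flatten_replicate]
    exact weq _ _ (by decide +kernel) (by decide +kernel) (by decide +kernel)
  · rw [sigma_wp hσ bw (by decide), ← wp_reverse _ F22.s_inv, ← wp_append, ← wp_append,
      ← wp_flatten_replicate]
    exact weq _ _ (by decide +kernel) (by decide +kernel) (by decide +kernel)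
  · intro m h0 h1
    interval_cases m
    · exact Or.inl ⟨0, rfl⟩
    · exact Or.inr ⟨4, rfl⟩
    · exact Or.inl ⟨2, rfl⟩
    · exact Or.inl ⟨3, rfl⟩
    · exact Or.inl ⟨1, rfl⟩
    · exact Or.inr ⟨1, rfl⟩
    · exact Or.inr ⟨3, rfl⟩
    · exact Or.inr ⟨2, rfl⟩
    · exact Or.inl ⟨4, rfl⟩
    · exact Or.inr ⟨0, rfl⟩

end Cfsg.Agent.Lib.Helper40.PE.O22
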